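import Groth.Agent.AssocBundleLib.Homog
import Groth.Agent.GenSmooth.Scheme

/-!
# Finite sets of a homogeneous space lie in affine opens
-/

set_option autoImplicit false
set_option linter.style.haveILetI false
set_option backward.isDefEq.respectTransparency false
set_option backward.isDefEq.respectTransparency.types false

universe u

open CategoryTheory CategoryTheory.Limits MonoidalCategory CartesianMonoidalCategory MonObj
  AlgebraicGeometry TopologicalSpace

namespace Groth.Agent.SubBundle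

variable {k : Type u} [Field k] [IsAlgClosed k] {G H B : Over (Spec (CommRingCat.of k))}
  [GrpObj G] [GrpObj H] [Smooth H.hom] (j : H ⟶ G) [IsMonHom j] {π : G ⟶ B}
  (hπ : IsPullback (AssocBundle.cosetAction j).act (snd H G) π π) [SchDesc.IsFpqc π.left]
  [LocallyOfFiniteType G.hom] [QuasiCompact G.hom] [LocallyOfFinitePresentation π.left]
  [LocallyOfFiniteType B.hom] [QuasiCompact B.hom]

include hπ in
theorem exists_affine_of_finset (F : Finset ↥B.left) :
    ∃ U : B.left.Opens, IsAffineOpen U ∧ (↑F : Set ↥B.left) ⊆ (U : Set ↥B.left) := by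
  classical
  haveI : IsLocallyNoetherian (Spec (CommRingCat.of k)) := inferInstance
  haveI : IsLocallyNoetherian B.left := LocallyOfFiniteType.isLocallyNoetherian B.hom
  haveI : CompactSpace B.left := (quasiCompact_iff_compactSpace B.hom).mp inferInstance
  haveI : AlgebraicGeometry.IsNoetherian B.left := ⟨⟩
  haveI : IsLocallyNoetherian G.left := LocallyOfFiniteType.isLocallyNoetherian G.hom
  haveI : CompactSpace G.left := (quasiCompact_iff_compactSpace G.hom).mp inferInstance
  haveI : AlgebraicGeometry.IsNoetherian G.left := ⟨⟩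
  haveI : JacobsonSpace G.left := LocallyOfFiniteType.jacobsonSpace G.hom
  haveI : JacobsonSpace B.left := LocallyOfFiniteType.jacobsonSpace B.hom
  obtain ⟨V, hV, hVd⟩ := GenSmooth.exists_dense_affine B.left
  let e₀ : G.left := η[G].left (IsLocalRing.closedPoint k)
  obtain ⟨O, hO, hOne, hOle⟩ := NoetherianSpace.exists_isOpen_nonempty_subset_irreducibleComponent
    (irreducibleComponent e₀) (irreducibleComponent_mem_irreducibleComponents e₀)
  have hOirr : IsPreirreducible O :=
    isIrreducible_irreducibleComponent.isPreirreducible.open_subset hO hOle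
  have hpt : ∀ c : B.left, c ∈ closedPoints B.left → ∃ g : 𝟙_ (Over (Spec (CommRingCat.of k))) ⟶ G,
      (g ≫ π).left (IsLocalRing.closedPoint k) = c := by
    intro c hc
    have hc' : IsClosed (π.left ⁻¹' {c}) := (show IsClosed {c} from hc).preimage π.left.continuous
    obtain ⟨x, hx, hxc⟩ := nonempty_inter_closedPoints
      (show (π.left ⁻¹' {c}).Nonempty from π.left.surjective c) hc'.isLocallyClosed
    refine ⟨Over.homMk (pointOfClosedPoint G.hom x hxc) (pointOfClosedPoint_comp _ _ _), ?_⟩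
    rw [Over.comp_left, Scheme.Hom.comp_apply]
    exact (congrArg π.left (pointOfClosedPoint_apply G.hom x hxc _)).trans hx
  choose cl hcl hclc using fun b : B.left =>
    (nonempty_inter_closedPoints (Set.Nonempty.closure (Set.singleton_nonempty b))
      isClosed_closure.isLocallyClosed)
  choose gb hgb using fun b : B.left => hpt (cl b) (hclc b)
  let m : B.left → (G ⟶ B) := fun b => ((𝟙 G)⁻¹ * (toUnit G ≫ gb b)) ≫ π
  let N : B.left → Set G.left := fun b => (m b).left ⁻¹' (V : Set B.left)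
  have hNopen : ∀ b, IsOpen (N b) := fun b => V.2.preimage (m b).left.continuous
  have hiso : ∀ (g : 𝟙_ (Over (Spec (CommRingCat.of k))) ⟶ G), IsIso ((𝟙 G)⁻¹ * (toUnit G ≫ g)) := by
    intro g
    refine ⟨(toUnit G ≫ g) * (𝟙 G)⁻¹, ?_, ?_⟩
    · rw [MonObj.comp_mul, GrpObj.comp_inv, Category.comp_id, ← Category.assoc,
        toUnit_unique (((𝟙 G)⁻¹ * toUnit G ≫ g) ≫ toUnit G) (toUnit G), mul_inv_rev, inv_inv,
        ← _root_.mul_assoc, mul_inv_cancel, _root_.one_mul]
    · rw [MonObj.comp_mul, GrpObj.comp_inv, Category.comp_id, ← Category.assoc,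
        toUnit_unique ((toUnit G ≫ g * (𝟙 G)⁻¹) ≫ toUnit G) (toUnit G), mul_inv_rev, inv_inv,
        _root_.mul_assoc, inv_mul_cancel, _root_.mul_one]
  have hOV : ∀ b, (O ∩ N b).Nonempty := by
    intro b
    let ρ : G ⟶ G := (𝟙 G)⁻¹ * (toUnit G ≫ gb b)
    haveI : IsIso ρ := hiso (gb b)
    haveI : IsIso ρ.left := inferInstanceAs (IsIso ((Over.forget _).map ρ))
    haveI : Flat π.left := inferInstance
    have hop : IsOpenMap (m b).left := by
      show IsOpenMap ⇑(ρ.left ≫ π.left)
      rw [Scheme.Hom.comp_base]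
      exact π.left.isOpenMap.comp ((Scheme.homeoOfIso (asIso ρ.left)).isOpenMap)
    obtain ⟨_, ⟨x, hx, rfl⟩, hxV⟩ := hVd.inter_open_nonempty _ (hop O hO) (hOne.image _)
    exact ⟨x, hx, hxV⟩
  obtain ⟨x, hxO, hx⟩ : ∃ x ∈ O, ∀ b ∈ F, x ∈ N b := by
    induction F using Finset.induction_on with
    | empty => exact hOne.imp fun x hx => ⟨hx, by simp⟩
    | insert b F _ ih =>
      obtain ⟨x, hxO, hx⟩ := ih
      have hF : IsOpen (⋂ c ∈ F, N c) := isOpen_biInter_finset fun c _ => hNopen c
      obtain ⟨y, hyO, hyb, hyF⟩ := hOirr _ _ (hNopen b) hF (hOV b) ⟨x, hxO, Set.mem_iInter₂.mpr hx⟩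
      refine ⟨y, hyO, fun c hc => ?_⟩
      rcases Finset.mem_insert.mp hc with rfl | hc
      · exact hyb
      · exact Set.mem_iInter₂.mp hyF c hc
  have hop' : IsOpen (O ∩ ⋂ b ∈ F, N b) := hO.inter (isOpen_biInter_finset fun c _ => hNopen c)
  obtain ⟨x₀, hx₀, hx₀c⟩ := nonempty_inter_closedPoints
    (show (O ∩ ⋂ b ∈ F, N b).Nonempty from ⟨x, hxO, Set.mem_iInter₂.mpr hx⟩) hop'.isLocallyClosed
  let g₀ : 𝟙_ (Over (Spec (CommRingCat.of k))) ⟶ G :=
    Over.homMk (pointOfClosedPoint G.hom x₀ hx₀c) (pointOfClosedPoint_comp _ _ _)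
  obtain ⟨t, ht⟩ := AssocBundle.exists_translation j hπ g₀⁻¹
  haveI : IsIso t.hom.left := inferInstanceAs (IsIso ((Over.forget _).map t.hom))
  refine ⟨t.hom.left ⁻¹ᵁ V, hV.preimage_of_isIso _, fun b hb => ?_⟩
  have hcb : t.hom.left (cl b) ∈ V := by
    have hc : ∀ (g c : 𝟙_ (Over (Spec (CommRingCat.of k))) ⟶ G), g ≫ toUnit G ≫ c = c := fun g c => by
      rw [← Category.assoc, toUnit_unique (g ≫ toUnit G) (𝟙 _), Category.id_comp]
    have h1 : (gb b ≫ π) ≫ t.hom = g₀ ≫ m b := by
      rw [Category.assoc, ht, ← Category.assoc, ← Category.assoc g₀]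
      congr 1
      simp only [MonObj.comp_mul, GrpObj.comp_inv, Category.comp_id, hc]
    rw [← hgb b, ← Scheme.Hom.comp_apply, ← Over.comp_left, h1, Over.comp_left, Scheme.Hom.comp_apply]
    show (m b).left (g₀.left _) ∈ (V : Set B.left)
    rw [show g₀.left (IsLocalRing.closedPoint k) = x₀ from pointOfClosedPoint_apply G.hom x₀ hx₀c _]
    exact Set.mem_iInter₂.mp hx₀.2 b hb
  exact (specializes_iff_mem_closure.mpr (hcl b)).mem_open (t.hom.left ⁻¹ᵁ V).2 hcb

end Groth.Agent.SubBundle
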