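import Groth.Agent.SubBundleLib.Translate
import Groth.Agent.SubBundleLib.FiniteSets
import Groth.Agent.AssocBundleLib.QuotScheme
import Groth.Agent.SpecialGLLib.Isotrivial
import Groth.Agent.FpqcDesc.Basic
import Groth.Agent.FpqcDesc.Stalk

/-!
# A principal bundle factors through the bundle of a closed subgroup
-/

set_option autoImplicit false
set_option maxHeartbeats 1000000
set_option linter.style.haveILetI false
set_option backward.isDefEq.respectTransparency false
set_option backward.isDefEq.respectTransparency.types false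

universe u

open CategoryTheory CategoryTheory.Limits MonoidalCategory CartesianMonoidalCategory MonObj
  AlgebraicGeometry

namespace Groth.Agent.SubBundle

attribute [-instance] CategoryTheory.Hom.commGroup

variable {k : Type u} [Field k] [IsAlgClosed k]

theorem exists_factor {G H X Y : Over (Spec (CommRingCat.of k))} [GrpObj G] [IsAffine G.left] [Smooth G.hom]
    [GrpObj H] [Smooth H.hom] (h : H ⟶ G) [IsMonHom h] [IsClosedImmersion h.left]
    [IsReduced X.left] [LocallyOfFiniteType X.hom] [QuasiCompact X.hom]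
    [IsSeparated Y.hom] [LocallyOfFiniteType Y.hom]
    (a : AlgGrp.Action G X) (f : X ⟶ Y) [Flat f.left] [Surjective f.left]
    (hcart : IsPullback a.act (snd G X) f f) :
    ∃ (Z : Over (Spec (CommRingCat.of k))) (φ : X ⟶ Z) (ψ : Z ⟶ Y),
      IsReduced Z.left ∧ IsSeparated Z.hom ∧ LocallyOfFiniteType Z.hom ∧ QuasiCompact Z.hom ∧
      φ ≫ ψ = f ∧ Flat φ.left ∧ Surjective φ.left ∧
      IsPullback (a.restrict h).act (snd H X) φ φ ∧ Smooth ψ.left ∧ Surjective ψ.left := by
  haveI : LocallyOfFiniteType G.hom := inferInstance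
  haveI : IsAffineHom G.hom := inferInstance
  haveI : QuasiCompact G.hom := inferInstance
  haveI : SchDesc.IsFpqc f.left := AssocBundle.isFpqc_quot f f.left.surjective
  haveI : QuasiCompact (f.left ≫ Y.hom) := by rw [Over.w f]; infer_instance
  haveI : QuasiCompact f.left := QuasiCompact.of_comp f.left Y.hom
  have hloc : NonAbH1.IsLocallyTrivialFor Scheme.fpqcPrecoverage (Over.mk f.left : Over Y.left) :=
    ⟨Presieve.singleton f.left, f.left.singleton_mem_fpqcPrecoverage, fun S' g hg => by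
      cases hg; exact ⟨𝟙 _, Category.id_comp _⟩⟩
  obtain ⟨B, πG, hsep, hlft, hqc, hfp, hlfp, hBsm, hπ⟩ : ∃ (B : Over (Spec (CommRingCat.of k))) (π : G ⟶ B),
      IsSeparated B.hom ∧ LocallyOfFiniteType B.hom ∧ QuasiCompact B.hom ∧ SchDesc.IsFpqc π.left ∧
      LocallyOfFinitePresentation π.left ∧ Smooth B.hom ∧
      IsPullback (AssocBundle.cosetAction h).act (snd H G) π π := by
    obtain ⟨B, p, hsep, hlft, hs, hf, hp, hsq, -, hqc, hsm⟩ := ArtGrpLib.exists_quotient_sub h
    haveI := hsep; haveI := hlft; haveI := hs; haveI := hf; haveI := hp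
    have hii : (𝟙 G)⁻¹ ≫ (𝟙 G)⁻¹ = 𝟙 G := by rw [GrpObj.comp_inv, Category.comp_id, inv_inv]
    haveI : IsIso ((𝟙 G)⁻¹) := ⟨_, hii, hii⟩
    haveI : IsIso ((𝟙 G)⁻¹).left := inferInstanceAs (IsIso ((Over.forget _).map _))
    refine ⟨B, (𝟙 G)⁻¹ ≫ p, hsep, hlft, hqc inferInstance, ?_, ?_, hsm inferInstance,
      AssocBundle.isPullback_cosetAction h p hsq⟩
    · rw [Over.comp_left]
      haveI : LocallyOfFinitePresentation (((𝟙 G)⁻¹).left ≫ p.left) := inferInstance
      exact SchDesc.IsFpqc.of_locallyOfFinitePresentation _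
    · rw [Over.comp_left]; infer_instance
  haveI := hsep; haveI := hlft; haveI := hqc; haveI := hfp; haveI := hlfp; haveI := hBsm
  obtain ⟨bB, hbB⟩ := exists_translationAction h hπ
  have hms : ∀ y : Y.left, ∃ U : Y.left.Opens, y ∈ U ∧ IsAffineOpen U ∧
      ∃ (U' : Scheme.{u}) (χ : U' ⟶ U) (s : U' ⟶ X.left),
        IsFinite χ ∧ Etale χ ∧ Surjective χ ∧ s ≫ f.left = χ ≫ U.ι := by
    intro y
    obtain ⟨U, hy, U', χ, hχf, hχe, hχs, s, hs⟩ := SpecialGL.exists_finiteEtale_section a f hcart hloc y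
    obtain ⟨V, hV, hyV, hVU⟩ := exists_isAffineOpen_mem_and_subset hy
    haveI := hχf; haveI := hχe; haveI := hχs
    let i : V.toScheme ⟶ U.toScheme := Y.left.homOfLE hVU
    refine ⟨V, hyV, hV, pullback i χ, pullback.fst i χ, pullback.snd i χ ≫ s,
      inferInstance, inferInstance, inferInstance, ?_⟩
    have hs' : s ≫ f.left = χ ≫ U.ι := hs
    rw [Category.assoc, hs', ← pullback.condition_assoc, Scheme.homOfLE_ι]
  obtain ⟨Q⟩ := AssocBundle.nonempty_quot hcart (a.prod bB) (AssocBundle.prod_act_fst a bB) hms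
    (exists_affine_of_finset h hπ)
  obtain ⟨Z, q, r, hqr, hsq, hqfp, hqc'⟩ :=
    AssocBundle.exists_quotient_of_quot hcart (fst X B) (a.prod bB) (AssocBundle.prod_act_fst a bB) Q
  haveI := hqfp
  let φ : X ⟶ Z := lift (𝟙 X) (1 ≫ πG) ≫ q
  have hφr : φ ≫ r = f := by
    simp only [φ, Category.assoc, hqr, lift_fst_assoc, Category.id_comp]
  have hφT : ∀ {T : Over (Spec (CommRingCat.of k))} (x : T ⟶ X), x ≫ φ = lift x (1 ≫ πG) ≫ q := by
    intro T x
    simp only [φ, comp_lift_assoc, Category.comp_id]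
    rw [← Category.assoc, MonObj.comp_one]
  have hfix : ∀ {T : Over (Spec (CommRingCat.of k))} (t : T ⟶ H), (t ≫ h) ≫ πG = (1 : T ⟶ G) ≫ πG := by
    intro T t
    have e : lift t⁻¹ (1 : T ⟶ G) ≫ (AssocBundle.cosetAction h).act = t ≫ h := by
      rw [AssocBundle.lift_cosetAction, _root_.one_mul]
      refine inv_eq_of_mul_eq_one_left ?_
      rw [← MonObj.mul_comp, mul_inv_cancel, MonObj.one_comp]
    rw [← e, Category.assoc, hπ.w, lift_snd_assoc]
  have hqinv : ∀ {T : Over (Spec (CommRingCat.of k))} (g : T ⟶ G) (x : T ⟶ X) (b : T ⟶ B),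
      lift (lift g x ≫ a.act) (lift g b ≫ bB.act) ≫ q = lift x b ≫ q := by
    intro T g x b
    rw [← AlgGrp.Action.lift_prod_act, Category.assoc, hqc'.w, lift_snd_assoc]
  have hinv : (a.restrict h).act ≫ φ = snd H X ≫ φ := by
    apply AlgGrp.Action.hom_ext_lift₂
    intro T t x
    rw [lift_snd_assoc, AlgGrp.Action.lift_restrict_act_assoc]
    rw [← Category.assoc, hφT, hφT, ← hqinv (t ≫ h) x (1 ≫ πG)]
    congr 2
    rw [hbB, _root_.mul_one]
    exact (hfix t).symm
  have hdiv : ∀ {T : Over (Spec (CommRingCat.of k))} (x' x : T ⟶ X), x' ≫ φ = x ≫ φ →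
      ∃ t : T ⟶ H, lift t x ≫ (a.restrict h).act = x' := by
    intro T x' x e
    rw [hφT, hφT] at e
    have e1 := AssocBundle.div_act hqc' _ _ e
    let g := AssocBundle.div hqc' _ _ e
    rw [AlgGrp.Action.lift_prod_act] at e1
    have ex : lift g x ≫ a.act = x' := by
      have := congrArg (· ≫ fst X B) e1
      simpa using this
    have eb : (g * 1) ≫ πG = (1 : T ⟶ G) ≫ πG := by
      rw [← hbB]
      have := congrArg (· ≫ snd X B) e1
      simpa using this
    rw [_root_.mul_one] at eb
    obtain ⟨t, ht⟩ : ∃ t : T ⟶ H, lift t (1 : T ⟶ G) ≫ (AssocBundle.cosetAction h).act = g :=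
      ⟨AssocBundle.div hπ _ _ eb, AssocBundle.div_act hπ _ _ eb⟩
    rw [AssocBundle.lift_cosetAction, _root_.one_mul] at ht
    refine ⟨t⁻¹, ?_⟩
    rw [AlgGrp.Action.lift_restrict_act]
    convert ex using 3
    rw [← ht, eq_inv_iff_mul_eq_one, ← MonObj.mul_comp, inv_mul_cancel, MonObj.one_comp]
  have hmono : ∀ {T : Over (Spec (CommRingCat.of k))} (t t' : T ⟶ H) (x : T ⟶ X),
      lift t x ≫ (a.restrict h).act = lift t' x ≫ (a.restrict h).act → t = t' := by
    intro T t t' x e
    rw [AlgGrp.Action.lift_restrict_act, AlgGrp.Action.lift_restrict_act] at e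
    have hw : (lift (t ≫ h) x ≫ a.act) ≫ f = x ≫ f := by rw [Category.assoc, hcart.w, lift_snd_assoc]
    have h1 := AssocBundle.div_eq hcart _ x hw (t ≫ h) rfl
    have h2 := AssocBundle.div_eq hcart _ x hw (t' ≫ h) e.symm
    haveI : Mono h := (Over.forget _).mono_of_mono_map (f := h)
      (show Mono h.left from SurjectiveOnStalks.mono_of_injective h.left.isEmbedding.injective)
    exact (cancel_mono h).mp (h1.symm.trans h2)
  have hcartφ : IsPullback (a.restrict h).act (snd H X) φ φ := by
    have hex : ∀ s : PullbackCone φ φ, ∃ t : s.pt ⟶ H, lift t s.snd ≫ (a.restrict h).act = s.fst :=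
      fun s => hdiv s.fst s.snd s.condition
    choose t ht using hex
    refine IsPullback.of_isLimit' ⟨hinv⟩ (PullbackCone.IsLimit.mk hinv (fun s => lift (t s) s.snd) ht
      (fun s => lift_snd _ _) fun s m h₁ h₂ => ?_)
    have e : m = lift (m ≫ fst H X) s.snd := by
      rw [← h₂, ← comp_lift, lift_fst_snd, Category.comp_id]
    refine e.trans ?_
    congr 1
    exact hmono _ _ s.snd (by rw [← e, h₁, ht])
  -- the projection `X × G ⟶ X`, `(x, g) ↦ g⁻¹ x`
  let ρ : X ⊗ G ⟶ X ⊗ G := lift (lift (snd X G)⁻¹ (fst X G) ≫ a.act) (snd X G)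
  haveI : IsIso ρ := by
    refine ⟨lift (lift (snd X G) (fst X G) ≫ a.act) (snd X G), ?_, ?_⟩ <;>
    · apply CartesianMonoidalCategory.hom_ext
      · simp only [ρ, Category.assoc, lift_fst, comp_lift_assoc, lift_snd, GrpObj.comp_inv, Category.id_comp]
        rw [← AlgGrp.Action.lift_mul_act]
        first
          | rw [mul_inv_cancel, AlgGrp.Action.lift_one_act]
          | rw [inv_mul_cancel, AlgGrp.Action.lift_one_act]
      · simp [ρ]
  haveI : IsIso ρ.left := inferInstanceAs (IsIso ((Over.forget _).map ρ))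
  have hΘ : (X ◁ πG) ≫ q = (ρ ≫ fst X G) ≫ φ := by
    rw [hφT, ← Category.comp_id (X ◁ πG), ← lift_fst_snd, comp_lift, whiskerLeft_fst, whiskerLeft_snd]
    rw [← hqinv (snd X G)⁻¹ (fst X G) (snd X G ≫ πG), hbB, inv_mul_cancel]
    simp [ρ]
  haveI : Flat (fst X G).left := MorphismProperty.pullback_fst (P := @Flat) X.hom G.hom inferInstance
  haveI : Surjective G.hom := ⟨fun z => ⟨(1 : 𝟙_ (Over (Spec (CommRingCat.of k))) ⟶ G).left z,
    Subsingleton.elim (α := PrimeSpectrum k) _ _⟩⟩
  haveI : Surjective (fst X G).left := MorphismProperty.pullback_fst (P := @Surjective) X.hom G.hom inferInstance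
  haveI := TorsorPush.isFpqc_whiskerLeft X πG
  haveI : Flat q.left := inferInstance
  haveI : Surjective q.left := inferInstance
  haveI : Flat (X ◁ πG).left := inferInstance
  haveI : Surjective (X ◁ πG).left := inferInstance
  haveI : Surjective ((ρ ≫ fst X G).left) := by rw [Over.comp_left]; infer_instance
  haveI : Flat ((ρ ≫ fst X G).left) := by rw [Over.comp_left]; infer_instance
  have hΘ' : (ρ ≫ fst X G).left ≫ φ.left = (X ◁ πG).left ≫ q.left := (congrArg (fun m => m.left) hΘ).symm
  haveI : Surjective ((ρ ≫ fst X G).left ≫ φ.left) := by rw [hΘ']; infer_instance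
  haveI : Flat ((ρ ≫ fst X G).left ≫ φ.left) := by rw [hΘ']; infer_instance
  haveI hφs : Surjective φ.left := Surjective.of_comp (ρ ≫ fst X G).left φ.left
  haveI hφf : Flat φ.left := FlatDescStalk.flat_of_comp (ρ ≫ fst X G).left φ.left
  have hdesc : ∀ (P : MorphismProperty Scheme.{u}) [P.IsStableUnderBaseChange] [IsZariskiLocalAtTarget P],
      P.DescendsAlong (@Surjective ⊓ @Flat ⊓ @QuasiCompact) → P (fst X B).left → P r.left := by
    intro P _ _ hd h1
    refine TorsorDesc.prop_of_isFpqc P hd r.left f.left ?_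
    rw [← hsq.flip.isoPullback_inv_snd]
    exact MorphismProperty.RespectsIso.precomp P _ _ h1
  haveI : IsSeparated r.left := hdesc @IsSeparated FpqcDesc.isSeparated_descends
    (MorphismProperty.pullback_fst (P := @IsSeparated) X.hom B.hom inferInstance)
  haveI hr : Smooth r.left := hdesc @Smooth inferInstance
    (MorphismProperty.pullback_fst (P := @Smooth) X.hom B.hom inferInstance)
  haveI : CompactSpace X.left := (quasiCompact_iff_compactSpace X.hom).mp inferInstance
  refine ⟨Z, φ, r, FlatDescStalk.isReduced_of_flat_surjective φ.left, ?_, ?_, ?_, hφr, hφf, hφs, hcartφ, hr, ?_⟩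
  · rw [← Over.w r]; infer_instance
  · rw [← Over.w r]; infer_instance
  · exact (quasiCompact_iff_compactSpace Z.hom).mpr (φ.left.surjective.compactSpace φ.left.continuous)
  · haveI : Surjective (φ.left ≫ r.left) := by rw [← Over.comp_left, hφr]; infer_instance
    exact Surjective.of_comp φ.left r.left

end Groth.Agent.SubBundle
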