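import Groth.Agent.SubBundleLib.OrbitQuot
import Groth.Agent.SpecialGLLib.Isotrivial

/-!
# The associated bundle of a principal bundle under a connected affine group
-/

set_option autoImplicit false
set_option maxHeartbeats 1000000
set_option linter.style.haveILetI false
set_option backward.isDefEq.respectTransparency false
set_option backward.isDefEq.respectTransparency.types false

universe u

open CategoryTheory CategoryTheory.Limits MonoidalCategory CartesianMonoidalCategory MonObj
  AlgebraicGeometry

namespace Groth.Agent.SubBundle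

attribute [-instance] CategoryTheory.Hom.commGroup

variable {k : Type u} [Field k] [IsAlgClosed k]

theorem exists_assocBundle {G X Y F : Over (Spec (CommRingCat.of k))} [GrpObj G] [IsAffine G.left] [Smooth G.hom]
    [ConnectedSpace ↥G.left] [LocallyOfFiniteType X.hom] [QuasiCompact X.hom] [LocallyOfFiniteType Y.hom]
    [QuasiSeparated Y.hom] [LocallyOfFiniteType F.hom]
    (a : AlgGrp.Action G X) (f : X ⟶ Y) [Flat f.left] [Surjective f.left]
    (hcart : IsPullback a.act (snd G X) f f) (b : AlgGrp.Action G F) :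
    ∃ (W : Over (Spec (CommRingCat.of k))) (q : X ⊗ F ⟶ W) (r : W ⟶ Y), q ≫ r = fst X F ≫ f ∧
      IsPullback (fst X F).left q.left f.left r.left ∧ SchDesc.IsFpqc q.left ∧
      IsPullback (a.prod b).act (snd G (X ⊗ F)) q q := by
  haveI : LocallyOfFiniteType G.hom := inferInstance
  haveI : QuasiCompact G.hom := inferInstance
  haveI : QuasiCompact (f.left ≫ Y.hom) := by rw [Over.w f]; infer_instance
  haveI : QuasiCompact f.left := QuasiCompact.of_comp f.left Y.hom
  haveI : SchDesc.IsFpqc f.left := SchDesc.IsFpqc.of_quasiCompact f.left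
  have hloc : NonAbH1.IsLocallyTrivialFor Scheme.fpqcPrecoverage (Over.mk f.left : Over Y.left) :=
    ⟨Presieve.singleton f.left, f.left.singleton_mem_fpqcPrecoverage, fun S' g hg => by
      cases hg; exact ⟨𝟙 _, Category.id_comp _⟩⟩
  have hms : ∀ y : Y.left, ∃ U : Y.left.Opens, y ∈ U ∧ IsAffineOpen U ∧
      ∃ (U' : Scheme.{u}) (χ : U' ⟶ U) (s : U' ⟶ X.left),
        IsFinite χ ∧ Etale χ ∧ Surjective χ ∧ s ≫ f.left = χ ≫ U.ι := by
    intro y
    obtain ⟨U, hy, U', χ, hχf, hχe, hχs, s, hs⟩ := SpecialGL.exists_finiteEtale_section a f hcart hloc y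
    obtain ⟨V, hV, hyV, hVU⟩ := exists_isAffineOpen_mem_and_subset hy
    haveI := hχf; haveI := hχe; haveI := hχs
    let i : V.toScheme ⟶ U.toScheme := Y.left.homOfLE hVU
    refine ⟨V, hyV, hV, pullback i χ, pullback.fst i χ, pullback.snd i χ ≫ s,
      inferInstance, inferInstance, inferInstance, ?_⟩
    have hs' : s ≫ f.left = χ ≫ U.ι := hs
    rw [Category.assoc, hs', ← pullback.condition_assoc, Scheme.homOfLE_ι]
  obtain ⟨Q⟩ := nonempty_quot_connected hcart b hms
  exact AssocBundle.exists_quotient_of_quot hcart (fst X F) (a.prod b) (AssocBundle.prod_act_fst a b) Q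

end Groth.Agent.SubBundle
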