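import Groth.Agent.AssocBundleLib.QuotScheme

/-!
# The associated bundle of a Zariski locally trivial principal bundle
-/

set_option autoImplicit false
set_option linter.style.haveILetI false
set_option backward.isDefEq.respectTransparency false
set_option backward.isDefEq.respectTransparency.types false

universe u

open CategoryTheory CategoryTheory.Limits MonoidalCategory CartesianMonoidalCategory MonObj
  AlgebraicGeometry

noncomputable section

namespace Groth.Agent.SubBundle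

variable {S : Scheme.{u}} {H G₀ B E : Over S} [GrpObj H] {r : AlgGrp.Action H G₀} {π : G₀ ⟶ B}
  (hπ : IsPullback r.act (snd H G₀) π π) (p₀ : E ⟶ G₀) (c : AlgGrp.Action H E)
  (hc : c.act ≫ p₀ = (H ◁ p₀) ≫ r.act) [SchDesc.IsFpqc π.left]

include hπ hc in
/-- Zariski local sections give the quotient. -/
theorem nonempty_quot_sections
    (hzar : ∀ b : B.left, ∃ (U : B.left.Opens) (s : (U : Scheme.{u}) ⟶ G₀.left), b ∈ U ∧ s ≫ π.left = U.ι) :
    Nonempty (SchDesc.Quot (AssocBundle.datum hπ p₀ c hc) ⊤) := by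
  let D := AssocBundle.datum hπ p₀ c hc
  refine SchDesc.quot_top fun v => ?_
  obtain ⟨U, s, hv, hs⟩ := hzar (π.left (D.obj.hom v))
  refine ⟨D.obj.hom ⁻¹ᵁ π.left ⁻¹ᵁ U, hv, ?_⟩
  haveI : SchDesc.IsFpqc (π.left ∣_ U) := SchDesc.IsFpqc.of_isPullback (isPullback_morphismRestrict π.left U).flip
  let q' : (U : Scheme.{u}) ⟶ (π.left ⁻¹ᵁ U : Scheme.{u}) := IsOpenImmersion.lift (π.left ⁻¹ᵁ U).ι s (by
    rintro _ ⟨z, rfl⟩
    rw [Scheme.Opens.range_ι]
    show π.left (s z) ∈ U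
    rw [← Scheme.Hom.comp_apply, hs]
    exact z.2)
  have hl₀ : q' ≫ (π.left ∣_ U) = 𝟙 _ := by
    rw [← cancel_mono U.ι, Category.assoc, morphismRestrict_ι, IsOpenImmersion.lift_fac_assoc, hs, Category.id_comp]
  haveI : IsIso (q' ≫ (π.left ∣_ U)) := hl₀ ▸ inferInstance
  haveI : IsFinite (q' ≫ (π.left ∣_ U)) := inferInstance
  haveI : Flat (q' ≫ (π.left ∣_ U)) := inferInstance
  haveI : Surjective (q' ≫ (π.left ∣_ U)) := inferInstance
  haveI : LocallyOfFinitePresentation (q' ≫ (π.left ∣_ U)) := inferInstance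
  haveI : SchDesc.IsFpqc (q' ≫ (π.left ∣_ U)) := SchDesc.IsFpqc.of_quasiCompact _
  let w₀ := (morphismRestrict_ι π.left U).symm
  let D₀ := SchDesc.pull D (π.left ⁻¹ᵁ U).ι w₀
  let wq : q' ≫ (π.left ∣_ U) = (q' ≫ (π.left ∣_ U)) ≫ 𝟙 _ := (Category.comp_id _).symm
  let D₁ := SchDesc.pull D₀ q' wq
  obtain ⟨Q₁⟩ := SchDesc.quot_of_affine_orbits (p := q' ≫ (π.left ∣_ U)) (D := D₁) fun v₁ => by
    obtain ⟨V, hV, hvV, -⟩ := exists_isAffineOpen_mem_and_subset (U := (⊤ : D₁.obj.left.Opens))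
      (show v₁ ∈ (⊤ : D₁.obj.left.Opens) from trivial)
    refine ⟨V, hV, fun t ht => ?_⟩
    have e : SchDesc.act D₁ = pullback.fst (D₁.obj.hom ≫ q' ≫ (π.left ∣_ U)) (q' ≫ (π.left ∣_ U)) := by
      rw [SchDesc.act_eq_move]
      refine SchDesc.move_self D₁ _ _ pullback.condition ?_
      have h := pullback.condition (f := D₁.obj.hom ≫ q' ≫ (π.left ∣_ U)) (g := q' ≫ (π.left ∣_ U))
      simpa [hl₀] using h
    rw [e, ht]
    exact hvV
  obtain ⟨Q₀⟩ := SchDesc.quot_of_pull_comp D₀ q' Q₁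
  exact SchDesc.quot_of_pull_open D U Q₀

end Groth.Agent.SubBundle
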