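import Groth.Agent.AssocBundleLib.QuotScheme
import Groth.Agent.GrpSchLib.Component

/-!
# Associated bundles with arbitrary fibre, for a connected group over an algebraically closed field

Finitely many points of one orbit of a connected group lie in an affine open, so descent along a finite etale
cover is effective for the relations coming from the group action.
-/

set_option autoImplicit false
set_option maxHeartbeats 1000000
set_option linter.style.haveILetI false
set_option backward.isDefEq.respectTransparency false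
set_option backward.isDefEq.respectTransparency.types false

universe u

open CategoryTheory CategoryTheory.Limits MonoidalCategory CartesianMonoidalCategory MonObj
  AlgebraicGeometry

noncomputable section

namespace Groth.Agent.SubBundle

attribute [-instance] CategoryTheory.Hom.commGroup

open AssocBundle (datum mv mvRaw)

theorem move_datum {S : Scheme.{u}} {G X Y E : Over S} [GrpObj G] {a : AlgGrp.Action G X} {φ : X ⟶ Y}
    (hcart : IsPullback a.act (snd G X) φ φ) (π : E ⟶ X) (c : AlgGrp.Action G E)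
    (hπ : c.act ≫ π = (G ◁ π) ≫ a.act) {T : Over S} (w : T ⟶ E) (y : T ⟶ X) (h : y ≫ φ = (w ≫ π) ≫ φ)
    (h₀ : w.left ≫ (datum hcart π c hπ).obj.hom ≫ φ.left = y.left ≫ φ.left) :
    SchDesc.move (datum hcart π c hπ) w.left y.left h₀ = (mv hcart π c w y h).left := by
  refine Eq.trans ?_ (AssocBundle.mvRaw_left hcart π c w y h (AssocBundle.left_cond π h))
  exact (SchDesc.φ_eq_move (D := datum hcart π c hπ) (w.left ≫ π.left) y.left
    ((Category.assoc _ _ _).trans (AssocBundle.left_cond π h)) ⟨w.left, rfl⟩).symm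

variable {k : Type u} [Field k] [IsAlgClosed k] {G₀ H B X : Over (Spec (CommRingCat.of k))}
  [GrpObj H] [LocallyOfFiniteType H.hom] [QuasiCompact H.hom] [ConnectedSpace ↥H.left]

/-- Translates of a finite set of points of one orbit lie in an affine open. -/
theorem exists_affine_of_translates [LocallyOfFiniteType X.hom] (bX : AlgGrp.Action H X) (x : ↥X.left)
    {κ : Type*} (s : Finset κ) (g : κ → (𝟙_ (Over (Spec (CommRingCat.of k))) ⟶ H))
    (z : κ → (𝟙_ (Over (Spec (CommRingCat.of k))) ⟶ X))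
    (hz : ∀ i ∈ s, (z i).left (IsLocalRing.closedPoint k) = x) :
    ∃ U : X.left.Opens, IsAffineOpen U ∧
      ∀ i ∈ s, (lift (g i) (z i) ≫ bX.act).left (IsLocalRing.closedPoint k) ∈ U := by
  classical
  haveI : IrreducibleSpace H.left := GrpSchLib.irreducibleSpace_of_connectedSpace
  haveI : IsLocallyNoetherian H.left := LocallyOfFiniteType.isLocallyNoetherian H.hom
  haveI : JacobsonSpace H.left := LocallyOfFiniteType.jacobsonSpace H.hom
  obtain ⟨V, hV, hxV, -⟩ := exists_isAffineOpen_mem_and_subset (U := ⊤) (show x ∈ (⊤ : X.left.Opens) from trivial)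
  let m : κ → (H ⟶ X) := fun i => lift (𝟙 H * (toUnit H ≫ g i)) (toUnit H ≫ z i) ≫ bX.act
  let N : κ → Set H.left := fun i => (m i).left ⁻¹' (V : Set X.left)
  have hN : ∀ i, IsOpen (N i) := fun i => V.2.preimage (m i).left.continuous
  have hpt : ∀ (i : κ) (h : 𝟙_ (Over (Spec (CommRingCat.of k))) ⟶ H),
      h ≫ m i = lift (h * g i) (z i) ≫ bX.act := by
    intro i h
    simp only [m, comp_lift_assoc, MonObj.comp_mul, Category.comp_id]
    rw [← Category.assoc h, ← Category.assoc h, toUnit_unique (h ≫ toUnit H) (𝟙 _), Category.id_comp,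
      Category.id_comp]
  have hne : ∀ i ∈ s, (N i).Nonempty := by
    intro i hi
    refine ⟨((g i)⁻¹).left (IsLocalRing.closedPoint k), ?_⟩
    show (m i).left _ ∈ (V : Set X.left)
    rw [← Scheme.Hom.comp_apply, ← Over.comp_left, hpt, inv_mul_cancel, AlgGrp.Action.lift_one_act, hz i hi]
    exact hxV
  have hall : (⋂ i ∈ s, N i).Nonempty := by
    clear hxV hz
    induction s using Finset.induction_on with
    | empty => simpa using (inferInstance : Nonempty H.left)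
    | insert a t _ ih =>
      obtain ⟨y, hy⟩ := ih fun i hi => hne i (Finset.mem_insert_of_mem hi)
      obtain ⟨y', h1, h2⟩ := nonempty_preirreducible_inter (hN a) (isOpen_biInter_finset fun c _ => hN c)
        (hne a (Finset.mem_insert_self a t)) ⟨y, hy⟩
      exact ⟨y', by simpa [Finset.set_biInter_insert] using And.intro h1 (Set.mem_iInter₂.mp h2)⟩
  obtain ⟨x₀, hx₀, hx₀c⟩ := nonempty_inter_closedPoints hall
    (isOpen_biInter_finset fun c _ => hN c).isLocallyClosed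
  let h₀ : 𝟙_ (Over (Spec (CommRingCat.of k))) ⟶ H :=
    Over.homMk (pointOfClosedPoint H.hom x₀ hx₀c) (pointOfClosedPoint_comp _ _ _)
  let τ : X ⟶ X := lift (toUnit X ≫ h₀) (𝟙 X) ≫ bX.act
  have hcomp : ∀ u v : 𝟙_ (Over (Spec (CommRingCat.of k))) ⟶ H,
      (lift (toUnit X ≫ u) (𝟙 X) ≫ bX.act) ≫ lift (toUnit X ≫ v) (𝟙 X) ≫ bX.act =
        lift (toUnit X ≫ (v * u)) (𝟙 X) ≫ bX.act := by
    intro u v
    rw [MonObj.comp_mul, AlgGrp.Action.lift_mul_act, comp_lift_assoc, Category.comp_id, ← Category.assoc _ (toUnit X),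
      toUnit_unique ((lift (toUnit X ≫ u) (𝟙 X) ≫ bX.act) ≫ toUnit X) (toUnit X)]
  haveI : IsIso τ := by
    refine ⟨lift (toUnit X ≫ h₀⁻¹) (𝟙 X) ≫ bX.act, ?_, ?_⟩
    · rw [hcomp, inv_mul_cancel, MonObj.comp_one, AlgGrp.Action.lift_one_act]
    · rw [hcomp, mul_inv_cancel, MonObj.comp_one, AlgGrp.Action.lift_one_act]
  haveI : IsIso τ.left := inferInstanceAs (IsIso ((Over.forget _).map τ))
  refine ⟨τ.left ⁻¹ᵁ V, hV.preimage_of_isIso _, fun i hi => ?_⟩
  show τ.left ((lift (g i) (z i) ≫ bX.act).left _) ∈ (V : Set X.left)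
  have e : (lift (g i) (z i) ≫ bX.act) ≫ τ = h₀ ≫ m i := by
    rw [hpt]
    simp only [τ, comp_lift_assoc, Category.comp_id]
    rw [← Category.assoc _ (toUnit X), toUnit_unique (((lift (g i) (z i) ≫ bX.act) ≫ toUnit X)) (𝟙 _),
      Category.id_comp, ← AlgGrp.Action.lift_mul_act]
  rw [← Scheme.Hom.comp_apply, ← Over.comp_left, e, Over.comp_left, Scheme.Hom.comp_apply,
    show h₀.left (IsLocalRing.closedPoint k) = x₀ from pointOfClosedPoint_apply H.hom x₀ hx₀c _]
  exact Set.mem_iInter₂.mp hx₀ i hi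

variable {r : AlgGrp.Action H G₀} {π : G₀ ⟶ B} (hπ : IsPullback r.act (snd H G₀) π π) (bX : AlgGrp.Action H X)
  [SchDesc.IsFpqc π.left] [LocallyOfFiniteType G₀.hom] [LocallyOfFiniteType B.hom] [LocallyOfFiniteType X.hom]

include hπ in
/-- Finite etale multisections give the associated bundle, whatever the fibre. -/
theorem nonempty_quot_connected
    (hms : ∀ b : B.left, ∃ U : B.left.Opens, b ∈ U ∧ IsAffineOpen U ∧
      ∃ (U' : Scheme.{u}) (φ : U' ⟶ U) (s : U' ⟶ G₀.left),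
        IsFinite φ ∧ Etale φ ∧ Surjective φ ∧ s ≫ π.left = φ ≫ U.ι) :
    Nonempty (SchDesc.Quot (datum hπ (fst G₀ X) (r.prod bX) (AssocBundle.prod_act_fst r bX)) ⊤) := by
  classical
  let D := datum hπ (fst G₀ X) (r.prod bX) (AssocBundle.prod_act_fst r bX)
  refine SchDesc.quot_top fun v => ?_
  obtain ⟨U, hv, hU, U', φ, s, hφf, hφe, hφs, hs⟩ := hms (π.left (D.obj.hom v))
  haveI := hφf; haveI := hφe; haveI := hφs
  refine ⟨D.obj.hom ⁻¹ᵁ π.left ⁻¹ᵁ U, hv, ?_⟩
  haveI : IsAffine U.toScheme := hU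
  haveI : IsAffine U' := isAffine_of_isAffineHom φ
  haveI : SchDesc.IsFpqc (π.left ∣_ U) := SchDesc.IsFpqc.of_isPullback (isPullback_morphismRestrict π.left U).flip
  let q' : U' ⟶ (π.left ⁻¹ᵁ U : Scheme.{u}) := IsOpenImmersion.lift (π.left ⁻¹ᵁ U).ι s (by
    rintro _ ⟨z, rfl⟩
    rw [Scheme.Opens.range_ι]
    show π.left (s z) ∈ U
    rw [← Scheme.Hom.comp_apply, hs, Scheme.Hom.comp_apply]
    exact (φ z).2)
  have hq' : q' ≫ (π.left ⁻¹ᵁ U).ι = s := IsOpenImmersion.lift_fac _ _ _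
  have hl₀ : q' ≫ (π.left ∣_ U) = φ := by
    rw [← cancel_mono U.ι, Category.assoc, morphismRestrict_ι, reassoc_of% hq', hs]
  haveI : IsFinite (q' ≫ (π.left ∣_ U)) := hl₀ ▸ hφf
  haveI : Etale (q' ≫ (π.left ∣_ U)) := hl₀ ▸ hφe
  haveI : Surjective (q' ≫ (π.left ∣_ U)) := hl₀ ▸ hφs
  haveI : Flat (q' ≫ (π.left ∣_ U)) := inferInstance
  haveI : LocallyOfFinitePresentation (q' ≫ (π.left ∣_ U)) := inferInstance
  haveI : SchDesc.IsFpqc (q' ≫ (π.left ∣_ U)) := SchDesc.IsFpqc.of_quasiCompact _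
  let w₀ := (morphismRestrict_ι π.left U).symm
  let D₀ := SchDesc.pull D (π.left ⁻¹ᵁ U).ι w₀
  let wq : q' ≫ (π.left ∣_ U) = (q' ≫ (π.left ∣_ U)) ≫ 𝟙 _ := (Category.comp_id _).symm
  let D₁ := SchDesc.pull D₀ q' wq
  let ε : D₁.obj.left ⟶ (G₀ ⊗ X).left := SchDesc.pullFst D₀ q' wq ≫ SchDesc.pullFst D (π.left ⁻¹ᵁ U).ι w₀
  let ρ : D₁.obj.left ⟶ X.left := ε ≫ (snd G₀ X).left
  have h1 : IsPullback (SchDesc.pullFst D₀ q' wq) D₁.obj.hom D₀.obj.hom q' := SchDesc.isPullback_pull D₀ q' wq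
  have h2 : IsPullback (SchDesc.pullFst D (π.left ⁻¹ᵁ U).ι w₀) D₀.obj.hom D.obj.hom (π.left ⁻¹ᵁ U).ι :=
    SchDesc.isPullback_pull D (π.left ⁻¹ᵁ U).ι w₀
  have h3 : IsPullback (snd G₀ X).left (fst G₀ X).left X.hom G₀.hom := (IsPullback.of_hasPullback G₀.hom X.hom).flip
  have hρ : IsPullback ρ D₁.obj.hom X.hom (q' ≫ (π.left ⁻¹ᵁ U).ι ≫ G₀.hom) := by
    have := h1.paste_horiz (h2.paste_horiz h3)
    simpa [ρ, ε, Category.assoc] using this
  haveI : IsAffineHom ρ := MorphismProperty.of_isPullback (P := @IsAffineHom) hρ.flip inferInstance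
  let σ : D₁.obj.left ⟶ Spec (CommRingCat.of k) := ρ ≫ X.hom
  haveI : LocallyOfFiniteType σ := by
    haveI : LocallyOfFiniteType (q' ≫ (π.left ⁻¹ᵁ U).ι ≫ G₀.hom) := by
      have e : q' ≫ (π.left ⁻¹ᵁ U).ι ≫ G₀.hom = φ ≫ U.ι ≫ B.hom := by
        rw [reassoc_of% hq', ← Over.w π, reassoc_of% hs]
      rw [e]
      infer_instance
    haveI : LocallyOfFiniteType ρ :=
      MorphismProperty.of_isPullback (P := @LocallyOfFiniteType) hρ.flip inferInstance
    infer_instance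
  let P := pullback (D₁.obj.hom ≫ q' ≫ (π.left ∣_ U)) (q' ≫ (π.left ∣_ U))
  let f₁ : P ⟶ D₁.obj.left := pullback.fst _ _
  haveI : IsFinite f₁ := MorphismProperty.pullback_fst (P := @IsFinite) _ _ inferInstance
  haveI : JacobsonSpace D₁.obj.left := LocallyOfFiniteType.jacobsonSpace σ
  haveI : LocallyOfFiniteType (f₁ ≫ σ) := inferInstance
  haveI : JacobsonSpace P := LocallyOfFiniteType.jacobsonSpace (f₁ ≫ σ)
  obtain ⟨Q₁⟩ := SchDesc.quot_of_affine_orbits (p := q' ≫ (π.left ∣_ U)) (D := D₁) fun v₁ => by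
    obtain ⟨v₀, hv₀, hv₀c⟩ : ∃ v₀ ∈ closure ({v₁} : Set D₁.obj.left), v₀ ∈ closedPoints D₁.obj.left :=
      nonempty_inter_closedPoints (Set.Nonempty.closure (Set.singleton_nonempty v₁))
        isClosed_closure.isLocallyClosed
    have hfin : ((f₁ ⁻¹' {v₀}) ∩ closedPoints P).Finite := (f₁.finite_preimage_singleton v₀).inter_of_left _
    have hpt : ∀ t : P, t ∈ closedPoints P → f₁ t = v₀ →
        ∃ (g : 𝟙_ (Over (Spec (CommRingCat.of k))) ⟶ H) (z : 𝟙_ (Over (Spec (CommRingCat.of k))) ⟶ X),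
          z.left (IsLocalRing.closedPoint k) = ρ v₀ ∧
          (lift g z ≫ bX.act).left (IsLocalRing.closedPoint k) = ρ (SchDesc.act D₁ t) := by
      intro t htc ht
      let τ : Spec (CommRingCat.of k) ⟶ P := pointOfClosedPoint (f₁ ≫ σ) t htc
      have hτ : τ ≫ f₁ ≫ σ = 𝟙 _ := pointOfClosedPoint_comp _ _ _
      have hτt : τ (IsLocalRing.closedPoint k) = t := pointOfClosedPoint_apply _ _ _ _
      let vT := τ ≫ f₁
      let xT := τ ≫ pullback.snd (D₁.obj.hom ≫ q' ≫ (π.left ∣_ U)) (q' ≫ (π.left ∣_ U))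
      have hw : (vT ≫ ε) ≫ (G₀ ⊗ X).hom = 𝟙 _ := by
        rw [← Over.w (snd G₀ X)]
        simpa [σ, ρ, vT, Category.assoc] using hτ
      let w : 𝟙_ (Over (Spec (CommRingCat.of k))) ⟶ G₀ ⊗ X := Over.homMk (vT ≫ ε) hw
      have hcond : vT ≫ D₁.obj.hom ≫ q' ≫ (π.left ∣_ U) = xT ≫ q' ≫ (π.left ∣_ U) := by
        simp only [vT, xT, Category.assoc, f₁]
        rw [pullback.condition]
      have hY : (xT ≫ q' ≫ (π.left ⁻¹ᵁ U).ι) ≫ π.left = w.left ≫ (fst G₀ X).left ≫ π.left := by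
        have h12 : ε ≫ (fst G₀ X).left = D₁.obj.hom ≫ q' ≫ (π.left ⁻¹ᵁ U).ι := by
          show (SchDesc.pullFst D₀ q' wq ≫ SchDesc.pullFst D (π.left ⁻¹ᵁ U).ι w₀) ≫ D.obj.hom = _
          rw [Category.assoc, h2.w, reassoc_of% h1.w]
        show _ = (vT ≫ ε) ≫ _
        rw [Category.assoc vT, reassoc_of% h12]
        have e := (reassoc_of% hcond.symm) U.ι
        simp only [xT, vT, Category.assoc, morphismRestrict_ι] at e ⊢
        exact e
      have hy : (xT ≫ q' ≫ (π.left ⁻¹ᵁ U).ι) ≫ G₀.hom = 𝟙 _ := by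
        rw [← Over.w π, ← Category.assoc, hY, Category.assoc, Category.assoc, Over.w π, Over.w (fst G₀ X)]
        exact hw
      let y : 𝟙_ (Over (Spec (CommRingCat.of k))) ⟶ G₀ := Over.homMk (xT ≫ q' ≫ (π.left ⁻¹ᵁ U).ι) hy
      have hyw : y ≫ π = (w ≫ fst G₀ X) ≫ π := Over.OverMorphism.ext (hY.trans (Category.assoc _ _ _).symm)
      have hact : (τ ≫ SchDesc.act D₁) ≫ ε = (mv hπ (fst G₀ X) (r.prod bX) w y hyw).left := by
        rw [← move_datum hπ (fst G₀ X) (r.prod bX) (AssocBundle.prod_act_fst r bX) w y hyw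
          (AssocBundle.left_cond (fst G₀ X) hyw), SchDesc.comp_act]
        show SchDesc.move D₁ vT xT hcond ≫ SchDesc.pullFst D₀ q' wq ≫ SchDesc.pullFst D (π.left ⁻¹ᵁ U).ι w₀ = _
        rw [← Category.assoc, SchDesc.move_pull, SchDesc.move_pull]
        exact SchDesc.move_congr₂ (Category.assoc _ _ _) (Category.assoc _ _ _)
      refine ⟨AssocBundle.div hπ y (w ≫ fst G₀ X) hyw, w ≫ snd G₀ X, ?_, ?_⟩
      · show (vT ≫ ε ≫ (snd G₀ X).left) _ = _
        rw [← hτt] at ht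
        rw [← ht]
        rfl
      · have e : (mv hπ (fst G₀ X) (r.prod bX) w y hyw) ≫ snd G₀ X =
            lift (AssocBundle.div hπ y (w ≫ fst G₀ X) hyw) (w ≫ snd G₀ X) ≫ bX.act := by
          simp [mv, AlgGrp.Action.prod]
        rw [← e, Over.comp_left, ← hact, ← hτt]
        rfl
    choose g z hz hgz using fun t : {t // t ∈ hfin.toFinset} =>
      hpt t.1 ((hfin.mem_toFinset.mp t.2).2) (hfin.mem_toFinset.mp t.2).1
    obtain ⟨V, hV, hVmem⟩ := exists_affine_of_translates bX (ρ v₀) Finset.univ g z fun i _ => hz i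
    refine ⟨ρ ⁻¹ᵁ V, hV.preimage ρ, fun t ht => ?_⟩
    obtain ⟨t₀, ht₀, ht₀v⟩ : ∃ t₀ ∈ closure ({t} : Set P), f₁ t₀ = v₀ := by
      have hsub := closure_minimal
        (Set.singleton_subset_iff.mpr ⟨t, subset_closure rfl, ht⟩ : {v₁} ⊆ f₁ '' closure ({t} : Set P))
        (f₁.isClosedMap _ isClosed_closure)
      exact hsub hv₀
    obtain ⟨t₁, ht₁, ht₁c⟩ : ∃ t₁ ∈ closure ({t₀} : Set P), t₁ ∈ closedPoints P :=
      nonempty_inter_closedPoints (Set.Nonempty.closure (Set.singleton_nonempty t₀))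
        isClosed_closure.isLocallyClosed
    have ht₁v : f₁ t₁ = v₀ := by
      have h' := (specializes_iff_mem_closure.mpr ht₁).map f₁.continuous
      rw [ht₀v] at h'
      exact Set.mem_singleton_iff.mp (h'.mem_closed (show IsClosed {v₀} from hv₀c) rfl)
    have hmem : t₁ ∈ hfin.toFinset := hfin.mem_toFinset.mpr ⟨ht₁v, ht₁c⟩
    have key : SchDesc.act D₁ t₁ ∈ ρ ⁻¹ᵁ V := by
      show ρ (SchDesc.act D₁ t₁) ∈ V
      rw [← hgz ⟨t₁, hmem⟩]
      exact hVmem _ (Finset.mem_univ _)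
    exact (((specializes_iff_mem_closure.mpr ht₀).trans (specializes_iff_mem_closure.mpr ht₁)).map
      (SchDesc.act D₁).continuous).mem_open (ρ ⁻¹ᵁ V).2 key
  obtain ⟨Q₀⟩ := SchDesc.quot_of_pull_comp D₀ q' Q₁
  exact SchDesc.quot_of_pull_open D U Q₀

end Groth.Agent.SubBundle
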