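import Groth.Agent.AssocBundleLib.Homog
import Groth.Agent.AssocBundleLib.Square
import Groth.Agent.TorsorPushLib.Main

/-!
# Left translation on a coset space
-/

set_option autoImplicit false
set_option linter.style.haveILetI false
set_option backward.isDefEq.respectTransparency false
set_option backward.isDefEq.respectTransparency.types false

universe u

open CategoryTheory CategoryTheory.Limits MonoidalCategory CartesianMonoidalCategory MonObj
  AlgebraicGeometry

namespace Groth.Agent.SubBundle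

variable {S : Scheme.{u}} {G H B : Over S} [GrpObj G] [GrpObj H] (j : H ⟶ G) [IsMonHom j] {π : G ⟶ B}
  (hπ : IsPullback (AssocBundle.cosetAction j).act (snd H G) π π) [SchDesc.IsFpqc π.left]

include hπ in
theorem exists_translationAction :
    ∃ b : AlgGrp.Action G B,
      ∀ (T : Over S) (g x : T ⟶ G), lift g (x ≫ π) ≫ b.act = (g * x) ≫ π := by
  haveI := TorsorPush.isFpqc_whiskerLeft G π
  haveI := TorsorPush.epi_of_isFpqc (G ◁ π)
  haveI := TorsorPush.epi_of_isFpqc π
  obtain ⟨m, hm⟩ := TorsorPush.exists_desc (G ◁ π) (μ[G] ≫ π) fun Z a c hac => by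
    have hf : a ≫ fst G G = c ≫ fst G G := by
      have := congrArg (fun m => m ≫ fst G B) hac
      simpa using this
    have hs : (a ≫ snd G G) ≫ π = (c ≫ snd G G) ≫ π := by
      have := congrArg (fun m => m ≫ snd G B) hac
      simpa using this
    obtain ⟨t, ht⟩ : ∃ t : Z ⟶ H, lift t (c ≫ snd G G) ≫ (AssocBundle.cosetAction j).act = a ≫ snd G G :=
      ⟨AssocBundle.div hπ _ _ hs, AssocBundle.div_act hπ _ _ hs⟩
    have key : ∀ d : Z ⟶ G ⊗ G, d ≫ μ[G] = (d ≫ fst G G) * (d ≫ snd G G) := fun d => by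
      rw [Hom.mul_def, ← comp_lift_assoc, lift_fst_snd, Category.id_comp]
    rw [← Category.assoc, ← Category.assoc, key, key, ← ht, hf, AssocBundle.lift_cosetAction,
      ← _root_.mul_assoc, ← AssocBundle.lift_cosetAction, Category.assoc, hπ.w, lift_snd_assoc]
  have hm' : ∀ (T : Over S) (g x : T ⟶ G), lift g (x ≫ π) ≫ m = (g * x) ≫ π := by
    intro T g x
    rw [← lift_whiskerLeft_assoc, hm, Hom.mul_def, Category.assoc]
  have hlift : ∀ {T : Over S} (b : T ⟶ B), ∃ (T' : Over S) (t : T' ⟶ T) (x : T' ⟶ G),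
      SchDesc.IsFpqc t.left ∧ x ≫ π = t ≫ b := fun b => AssocBundle.exists_fpqc_lift π b
  have hone : ∀ {T : Over S} (b : T ⟶ B), lift 1 b ≫ m = b := by
    intro T b
    obtain ⟨T', t, x, ht, hx⟩ := hlift b
    haveI := ht
    haveI := TorsorPush.epi_of_isFpqc t
    rw [← cancel_epi t, comp_lift_assoc, MonObj.comp_one, ← hx, hm', _root_.one_mul]
  have hmul : ∀ {T : Over S} (g g' : T ⟶ G) (b : T ⟶ B), lift (g * g') b ≫ m = lift g (lift g' b ≫ m) ≫ m := by
    intro T g g' b
    obtain ⟨T', t, x, ht, hx⟩ := hlift b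
    haveI := ht
    haveI := TorsorPush.epi_of_isFpqc t
    rw [← cancel_epi t, comp_lift_assoc, comp_lift_assoc, comp_lift_assoc, MonObj.comp_mul, ← hx, hm', hm', hm',
      _root_.mul_assoc]
  refine ⟨{ act := m, one_act := ?_, mul_act := ?_ }, hm'⟩
  · apply AlgGrp.Action.hom_ext_lift₂
    intro T u p
    have hu : u ≫ η[G] = 1 := by rw [Hom.one_def, toUnit_unique (toUnit T) u]
    rw [lift_whiskerRight_assoc, hu, hone, leftUnitor_hom, lift_snd]
  · apply AlgGrp.Action.hom_ext_lift₃
    intro T h h' x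
    rw [lift_whiskerRight_assoc, ← Hom.mul_def, lift_lift_associator_hom_assoc, lift_whiskerLeft_assoc]
    exact hmul h h' x

end Groth.Agent.SubBundle
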